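import Cfsg.Agent.H713.B0R.Tool
import Cfsg.Agent.H655.BR.Tool
import Cfsg.Agent.H657.Frob.Main
import Cfsg.Agent.H646.BR.Congr
import Cfsg.Agent.H729.RealHS
import Cfsg.Agent.H547.SelfCent.McLHS
import Cfsg.Agent.H393.Iso.HS
import Cfsg.Agent.NotCT.Orders
import Cfsg.Agent.H809.RealB0.Ly
import Cfsg.Agent.H799.PB.Ly67

/-!
# Rational characters in the principal block: `HS` (`p = 7, 11`), `Ly` (`p = 7, 31`) (helper690)

The engine `B₀(7) ∩ B₀(11)`, `B₀(7) ∩ B₀(31)`.
-/

set_option autoImplicit false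
set_option maxRecDepth 100000

namespace Cfsg.Agent.H690.B0R

open Cfsg Subgroup Cfsg.Agent.H145.BR Cfsg.Agent.H713.B0R

universe u

theorem frobAt' {p : ℕ} (hp : p.Prime) (hp2 : p ≠ 2) {G : Type u} [Group G] [Finite G] (h1 : p ∣ Nat.card G)
    (h2 : ¬ p ^ 2 ∣ Nat.card G) : FrobAt p G := by
  have := Fact.mk hp
  exact fun M hM => H657.Frob.frob hM hp2 h1 h2

/-! ### `HS` -/

section HS

open Cfsg.Agent.HN Cfsg.Agent.HN.Pres Cfsg.Agent.HN.HS100 Cfsg.Agent.HN.P1408 Cfsg.Agent.HN.H0Basic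
open Cfsg.Agent.KFacts.HS Cfsg.Agent.KFacts.HS.DFour
open Cfsg.Agent.KFacts.HS.TwoB (g0 g0w g0_mem_K)
open Cfsg.Agent.H729.PairBase Cfsg.Agent.H729.PairHS Cfsg.Agent.H101.RO

theorem hs_seven_model {L : Type*} [Group L] (D : KFacts.HS.Mod L) :
    ∃ s t : L, s * s = 1 ∧ t * t = 1 ∧ orderOf (s * t) = 7 := by
  have hfin := D.finite
  refine ⟨D.π ⟨hw g0w, g0w_mem⟩, D.π ⟨hw tw, tw_mem⟩, ?_, ?_, ?_⟩
  · exact wB_sq D
  · rw [← map_mul, ← map_one D.π, pi_eq]
    show φ (hw tw * hw tw) = φ 1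
    rw [← hw_append, ← hw_nil]
    exact eqt_spec (by decide +kernel)
  · have : Fact (Nat.Prime 7) := ⟨by norm_num⟩
    have hp : D.π ⟨hw g0w, g0w_mem⟩ * D.π ⟨hw tw, tw_mem⟩ = D.π (⟨hw g0w, g0w_mem⟩ * ⟨hw tw, tw_mem⟩) :=
      (map_mul _ _ _).symm
    refine orderOf_eq_prime ?_ ?_
    · rw [hp, ← map_pow, ← map_one D.π, pi_eq]
      show φ ((hw g0w * hw tw) ^ 7) = φ 1
      rw [← hw_append, ← hw_nil]
      have e : hw (g0w ++ tw) ^ 7 = hw (pw ++ (pw ++ (pw ++ (pw ++ (pw ++ (pw ++ pw)))))) := by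
        simp only [hw_append, pow_succ, pow_zero, one_mul, pw, mul_assoc]
      rw [e]
      exact eqt_spec (by decide +kernel)
    · intro h
      rw [hp, ← map_one D.π, pi_eq] at h
      have h1 : φ (hw (g0w ++ tw)) = φ (hw []) := by rw [hw_append, hw_nil]; exact h
      rw [φ_eq_iff, ← hw_τ, ← hw_append] at h1
      rcases h1 with h1 | h1
      · exact absurd (eqw_of_hw_eq (by decide) (by decide) h1) (by decide +kernel)
      · exact absurd (eqw_of_hw_eq (by decide) (by decide) h1) (by decide +kernel)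

end HS

theorem isConj_of_two {G : Type*} [Group G] {s t : G} (hs : s * s = 1) (ht : t * t = 1) :
    IsConj (s * t) (s * t)⁻¹ := by
  have hsi : s⁻¹ = s := inv_eq_of_mul_eq_one_left hs
  have hti : t⁻¹ = t := inv_eq_of_mul_eq_one_left ht
  refine isConj_iff.2 ⟨s, ?_⟩
  rw [hsi, mul_inv_rev, hsi, hti]
  calc s * (s * t) * s = (s * s) * t * s := by group
    _ = t * s := by rw [hs, one_mul]

theorem hs_seven {K : Type*} [Group K] (h : Spor.IsoHS K) : ∃ y : K, orderOf y = 7 ∧ IsConj y y⁻¹ := by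
  obtain ⟨D⟩ := KFacts.HS.exists_mod h
  obtain ⟨s, t, hs, ht, h7⟩ := hs_seven_model D
  exact ⟨s * t, h7, isConj_of_two hs ht⟩

/-- **`HS`**, `p = 7, 11`. -/
theorem rowZ_hs {S : Type u} [Group S] [Finite S] [IsSimpleGroup S] (h : Spor.IsoHS S) : RowZ 7 S ∧ RowZ 11 S := by
  have hc := NotCT.Orders.hs h
  have f7 : Fact (Nat.Prime 7) := ⟨by norm_num⟩
  have f11 : Fact (Nat.Prime 11) := ⟨by norm_num⟩
  obtain ⟨y, hy, hyr⟩ := hs_seven h
  obtain ⟨x, hx⟩ := exists_prime_orderOf_dvd_card' (G := S) 11 (by rw [hc]; norm_num)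
  have hxC := H547.SelfCent.McLHS.hs h (H393.Iso.na_hs h) hc hx
  refine rowZ_of_pair (by norm_num) (by norm_num) (by norm_num) (by norm_num) (by norm_num)
    (by rw [hc]; norm_num) (by rw [hc]; norm_num) (by rw [hc]; norm_num) (by rw [hc]; norm_num) ?_ ?_ ?_
    (frobAt' (by norm_num) (by norm_num) (by rw [hc]; norm_num) (by rw [hc]; norm_num))
    (frobAt' (by norm_num) (by norm_num) (by rw [hc]; norm_num) (by rw [hc]; norm_num))
    (H494.B0R.HS_7_11 (by rw [hc]; norm_num))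
  · intro P
    have h1 := H655.BR.even_relIndex (by norm_num) (by rw [hc]; norm_num) hy hyr P
    have h2 := SmallSimple.BurnsideNC.relIndex_dvd_of_card_eq_prime P
      (H852.RatB.card_sylow_of_not_sq (by rw [hc]; norm_num) (by rw [hc]; norm_num) P)
    have h3 := Nat.le_of_dvd (by norm_num) h2
    generalize (centralizer (P : Set S)).relIndex (normalizer (P : Set S)) = e at *
    interval_cases e
    · simp at h2
    · exact absurd h1 (by decide)
    · right; decide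
    · exact absurd h1 (by decide)
    · norm_num at h2
    · exact absurd h1 (by decide)
    · left; rfl
  · intro Q
    exact cond_of_prim Q (H852.RatB.card_sylow_of_not_sq (by rw [hc]; norm_num) (by rw [hc]; norm_num) Q)
      (by decide +kernel)
  · intro g hg
    exact H655.BR.not_mul_dvd (by rw [hc]; norm_num) hx (H655.BR.isPGroup_of_card hxC) (q := 7) (by norm_num)
      (by norm_num) g (by rw [hg])

/-! ### `Ly` -/

theorem rowZ_ly_model : RowZ 7 Spor.Ly ∧ RowZ 31 Spor.Ly := by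
  have hfin : Finite Spor.Ly := Ly.Setup.finite_ly
  have hc : Nat.card Spor.Ly = 51765179004000000 := Ly.Setup.card_ly
  have f7 : Fact (Nat.Prime 7) := ⟨by norm_num⟩
  have f31 : Fact (Nat.Prime 31) := ⟨by norm_num⟩
  have f67 : Fact (Nat.Prime 67) := ⟨by norm_num⟩
  obtain ⟨y, t, hy, -, hyt⟩ := H809.RealB0.Ly.real_of_alt (p := 7) (by norm_num) (H661.Spor.Alt.hasReal_alt (by norm_num))
  obtain ⟨z, t', hz, -, hzt⟩ := H809.RealB0.Ly.real31
  have hyr : IsConj y y⁻¹ := isConj_iff.2 ⟨t, hyt⟩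
  have hzr : IsConj z z⁻¹ := isConj_iff.2 ⟨t', hzt⟩
  obtain ⟨v, hv⟩ := exists_prime_orderOf_dvd_card' (G := Spor.Ly) 67 (by rw [hc]; norm_num)
  refine rowZ_of_pair (by norm_num) (by norm_num) (by norm_num) (by norm_num) (by norm_num)
    (by rw [hc]; norm_num) (by rw [hc]; norm_num) (by rw [hc]; norm_num) (by rw [hc]; norm_num) ?_ ?_ ?_
    (frobAt' (by norm_num) (by norm_num) (by rw [hc]; norm_num) (by rw [hc]; norm_num))
    (frobAt' (by norm_num) (by norm_num) (by rw [hc]; norm_num) (by rw [hc]; norm_num))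
    (H494.B0R.Ly_7_31 (by rw [hc]; norm_num) fun g d hd => ?_)
  · intro P
    exact cond_of_prim P (H852.RatB.card_sylow_of_not_sq (by rw [hc]; norm_num) (by rw [hc]; norm_num) P)
      (by decide +kernel)
  · intro P
    have h1 := H655.BR.even_relIndex (by norm_num) (by rw [hc]; norm_num) hz hzr P
    have h2 := SmallSimple.BurnsideNC.relIndex_dvd_of_card_eq_prime P
      (H852.RatB.card_sylow_of_not_sq (by rw [hc]; norm_num) (by rw [hc]; norm_num) P)
    have h4 : (centralizer (P : Set Spor.Ly)).relIndex (normalizer (P : Set Spor.Ly)) ∈ Nat.divisors 30 :=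
      Nat.mem_divisors.2 ⟨h2, by norm_num⟩
    generalize (centralizer (P : Set Spor.Ly)).relIndex (normalizer (P : Set Spor.Ly)) = e at *
    have h5 : ∀ e ∈ Nat.divisors 30, Even e → e = 30 ∨ ¬ 7 ^ e % 31 = 1 % 31 := by decide +kernel
    exact h5 e h4 h1
  · intro g hg
    exact H655.BR.not_mul_dvd (by rw [hc]; norm_num) H799.PB.Ly31.order_w H799.PB.Ly31.isPGroup_cent (q := 7) (by norm_num)
      (by norm_num) g (by rw [hg])
  · rw [List.mem_singleton] at hd
    subst hd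
    intro h1
    exact H655.BR.not_mul_dvd (p := 67) (by rw [hc]; norm_num) hv (H799.PB.Ly67.isPGroup_cent hv) (q := 37) (by norm_num)
      (by norm_num) g ((by norm_num : 67 * 37 ∣ 9 * 37 * 67).trans h1)

/-- **`Ly`**, `p = 7, 31`. -/
theorem rowZ_ly {S : Type u} [Group S] (h : Spor.IsoLy S) : RowZ 7 S ∧ RowZ 31 S := by
  obtain ⟨e⟩ := h
  exact ⟨H646.BR.rowZ_congr e rowZ_ly_model.1, H646.BR.rowZ_congr e rowZ_ly_model.2⟩

end Cfsg.Agent.H690.B0R
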