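import Cfsg.Agent.H655.BR.Tool
import Cfsg.Agent.H657.Frob.Main
import Cfsg.Agent.H646.BR.Congr
import Cfsg.Agent.H547.SelfCent.He
import Cfsg.Agent.FixBN.HeStab
import Cfsg.Agent.KFacts.He.Lv
import Cfsg.Agent.H587.NR.He
import Cfsg.Agent.KFacts.He.Classes

/-!
# Rational characters in the principal block: `He`, `p = 17` (helper690)

`|N(P) : C(P)| = 8`; the Sylow 3-subgroups of `He` have exponent 3 (explicit generators), so the one-prime engine of
helper655 applies. `no_nine_of_heis` is the lemma of `H799.RO.RowCo3` (copied, to keep the imports small).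
-/

set_option autoImplicit false
set_option maxRecDepth 100000

namespace Cfsg.Agent.H690.B0R.HeRow

open Cfsg Subgroup Cfsg.Agent.H145.BR

universe u

/-- the Sylow 3-subgroup has exponent 3 (helper799) -/
theorem no_nine_of_heis {G : Type*} [Group G] [Finite G] (h27 : 3 ^ 3 ∣ Nat.card G) (h81 : ¬ 3 ^ 4 ∣ Nat.card G) {a b c : G}
    (ha : a ^ 3 = 1) (hb : b ^ 3 = 1) (hc : c ^ 3 = 1) (hac : a * c = c * a) (hbc : b * c = c * b)
    (hab : a * b = b * a * c) (hne : a * b ≠ b * a) (g : G) : orderOf g ≠ 9 := by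
  intro hg
  have h3 : Fact (Nat.Prime 3) := ⟨Nat.prime_three⟩
  have cac : Commute a c := hac
  have cbc : Commute b c := hbc
  have hba : b * a = a * b * c ^ 2 := by
    rw [hab, mul_assoc, ← pow_succ', hc, mul_one]
  have e1 : ∀ j : ℕ, b ^ j * a = a * b ^ j * c ^ (2 * j) := by
    intro j
    induction j with
    | zero => simp
    | succ j ih =>
      calc b ^ (j + 1) * a = b ^ j * (b * a) := by rw [pow_succ]; group
        _ = (b ^ j * a) * b * c ^ 2 := by rw [hba]; group
        _ = a * b ^ j * (c ^ (2 * j) * b) * c ^ 2 := by rw [ih]; group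
        _ = a * b ^ j * (b * c ^ (2 * j)) * c ^ 2 := by rw [(cbc.pow_right (2 * j)).eq]
        _ = a * b ^ (j + 1) * c ^ (2 * (j + 1)) := by
          rw [pow_succ, show 2 * (j + 1) = 2 * j + 2 by ring, pow_add]; group
  have e2 : ∀ i j : ℕ, b ^ j * a ^ i = a ^ i * b ^ j * c ^ (2 * j * i) := by
    intro i j
    induction i with
    | zero => simp
    | succ i ih =>
      calc b ^ j * a ^ (i + 1) = (b ^ j * a ^ i) * a := by rw [pow_succ]; group
        _ = a ^ i * b ^ j * (c ^ (2 * j * i) * a) := by rw [ih]; group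
        _ = a ^ i * b ^ j * (a * c ^ (2 * j * i)) := by rw [(cac.pow_right (2 * j * i)).eq]
        _ = a ^ i * (b ^ j * a) * c ^ (2 * j * i) := by group
        _ = a ^ i * (a * b ^ j * c ^ (2 * j)) * c ^ (2 * j * i) := by rw [e1]
        _ = a ^ (i + 1) * b ^ j * c ^ (2 * j * (i + 1)) := by
          rw [pow_succ, show 2 * j * (i + 1) = 2 * j + 2 * j * i by ring, pow_add]; group
  have hmul : ∀ i j k i' j' k' : ℕ, (a ^ i * b ^ j * c ^ k) * (a ^ i' * b ^ j' * c ^ k') =
      a ^ (i + i') * b ^ (j + j') * c ^ (k + k' + 2 * j * i') := by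
    intro i j k i' j' k'
    calc (a ^ i * b ^ j * c ^ k) * (a ^ i' * b ^ j' * c ^ k')
        = a ^ i * b ^ j * (c ^ k * a ^ i') * b ^ j' * c ^ k' := by group
      _ = a ^ i * b ^ j * (a ^ i' * c ^ k) * b ^ j' * c ^ k' := by rw [(cac.pow_pow i' k).eq]
      _ = a ^ i * (b ^ j * a ^ i') * (c ^ k * b ^ j') * c ^ k' := by group
      _ = a ^ i * (a ^ i' * b ^ j * c ^ (2 * j * i')) * (b ^ j' * c ^ k) * c ^ k' := by
        rw [e2, (cbc.pow_pow j' k).eq]
      _ = a ^ i * a ^ i' * b ^ j * (c ^ (2 * j * i') * b ^ j') * c ^ k * c ^ k' := by group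
      _ = a ^ i * a ^ i' * b ^ j * (b ^ j' * c ^ (2 * j * i')) * c ^ k * c ^ k' := by
        rw [(cbc.pow_pow j' (2 * j * i')).eq]
      _ = _ := by
        rw [pow_add, pow_add, show k + k' + 2 * j * i' = 2 * j * i' + k + k' by ring, pow_add, pow_add]
        group
  have hcube : ∀ i j k : ℕ, (a ^ i * b ^ j * c ^ k) ^ 3 = 1 := by
    intro i j k
    rw [pow_succ, pow_two, hmul, hmul, show i + i + i = 3 * i by ring, show j + j + j = 3 * j by ring,
      show k + k + 2 * j * i + k + 2 * (j + j) * i = 3 * (k + 2 * j * i) by ring, pow_mul, pow_mul, pow_mul, ha, hb, hc,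
      one_pow, one_pow, one_pow, one_mul, one_mul]
  let P : Subgroup G :=
    { carrier := {x | ∃ i j k : ℕ, x = a ^ i * b ^ j * c ^ k}
      one_mem' := ⟨0, 0, 0, by simp⟩
      mul_mem' := by
        rintro _ _ ⟨i, j, k, rfl⟩ ⟨i', j', k', rfl⟩
        exact ⟨_, _, _, hmul i j k i' j' k'⟩
      inv_mem' := by
        rintro _ ⟨i, j, k, rfl⟩
        refine ⟨_, _, _, (?_ : (a ^ i * b ^ j * c ^ k)⁻¹ = _).trans (hmul i j k i j k)⟩
        rw [inv_eq_iff_mul_eq_one, ← mul_assoc, ← pow_two, ← pow_succ]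
        exact hcube i j k }
  have hP3 : ∀ x ∈ P, x ^ 3 = 1 := by
    rintro _ ⟨i, j, k, rfl⟩
    exact hcube i j k
  have hPp : IsPGroup 3 P := fun x => ⟨1, Subtype.ext (by rw [pow_one]; exact hP3 x x.2)⟩
  obtain ⟨Q, hQ⟩ := hPp.exists_le_sylow
  have hfac : (Nat.card G).factorization 3 = 3 := by
    have h1 : Nat.card G ≠ 0 := Nat.card_pos.ne'
    have h2 := (Nat.prime_three.pow_dvd_iff_le_factorization h1).1 h27
    by_contra hne
    exact h81 ((Nat.prime_three.pow_dvd_iff_le_factorization h1).2 (by omega))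
  have hQc : Nat.card Q = 3 ^ 3 := by rw [Sylow.card_eq_multiplicity, hfac]
  obtain ⟨n, hn⟩ := IsPGroup.iff_card.1 hPp
  have hn3 : 3 ≤ n := by
    by_contra hlt
    have hab' : ∀ x y : P, x * y = y * x := by
      have hcases : n = 0 ∨ n = 1 ∨ n = 2 := by omega
      rcases hcases with rfl | rfl | rfl
      · have : Subsingleton P := (Nat.card_eq_one_iff_unique.1 (by rw [hn, pow_zero])).1
        intro x y
        exact Subsingleton.elim _ _
      · have := isCyclic_of_prime_card (α := P) (p := 3) (by rw [hn, pow_one])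
        intro x y
        exact (IsCyclic.commGroup (α := P)).mul_comm x y
      · intro x y
        have := IsPGroup.isMulCommutative_of_card_eq_prime_sq hn
        exact (this.is_comm.comm x y)
    apply hne
    have h1 := hab' ⟨a, 1, 0, 0, by simp⟩ ⟨b, 0, 1, 0, by simp⟩
    exact congrArg Subtype.val h1
  have hPQ : P = Q := by
    apply Subgroup.eq_of_le_of_card_ge hQ
    rw [hQc, hn]
    exact Nat.pow_le_pow_right (by norm_num) hn3
  have hgp : IsPGroup 3 (zpowers g) := IsPGroup.of_card (n := 2) (by rw [Nat.card_zpowers, hg]; norm_num)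
  obtain ⟨R, hR⟩ := hgp.exists_le_sylow
  obtain ⟨h, hh⟩ := MulAction.exists_smul_eq G R Q
  have hmem : h * g * h⁻¹ ∈ P := by
    rw [hPQ, ← hh, Sylow.coe_subgroup_smul]
    exact Subgroup.smul_mem_pointwise_smul g (MulAut.conj h) (R : Subgroup G) (hR (mem_zpowers g))
  have h1 := hP3 _ hmem
  rw [conj_pow, mul_inv_eq_one, mul_eq_left] at h1
  have h2 := orderOf_dvd_of_pow_eq_one h1
  rw [hg] at h2
  norm_num at h2

open Cfsg.Spor.He Cfsg.Agent.SporadicB.HePerm Cfsg.Agent.FixBN.HeStab Cfsg.Agent.KFacts.He.Lv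

def Wa : List Gen := [.c, .d, .c, .e]
def Wb : List Gen := [.d, .b, .c, .d, .f, .e, .f, .c, .b, .d]
def Wc : List Gen := Wa.reverse ++ (Wb.reverse ++ (Wa ++ Wb))

theorem a3 : wd Wa ^ 3 = 1 := by
  have h := eq_of_chkB (v := Wa ++ (Wa ++ Wa)) (w := []) (by decide +kernel)
  rw [wd_append, wd_append, wd_nil] at h
  rw [pow_succ, pow_two, mul_assoc]
  exact h

theorem b3 : wd Wb ^ 3 = 1 := by
  have h := eq_of_chkB (v := Wb ++ (Wb ++ Wb)) (w := []) (by decide +kernel)
  rw [wd_append, wd_append, wd_nil] at h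
  rw [pow_succ, pow_two, mul_assoc]
  exact h

theorem c3 : wd Wc ^ 3 = 1 := by
  have h := eq_of_chkB (v := Wc ++ (Wc ++ Wc)) (w := []) (by decide +kernel)
  rw [wd_append, wd_append, wd_nil] at h
  rw [pow_succ, pow_two, mul_assoc]
  exact h

theorem ac : wd Wa * wd Wc = wd Wc * wd Wa := by
  have h := eq_of_chkB (v := Wa ++ Wc) (w := Wc ++ Wa) (by decide +kernel)
  rwa [wd_append, wd_append] at h

theorem bc : wd Wb * wd Wc = wd Wc * wd Wb := by
  have h := eq_of_chkB (v := Wb ++ Wc) (w := Wc ++ Wb) (by decide +kernel)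
  rwa [wd_append, wd_append] at h

theorem ab : wd Wa * wd Wb = wd Wb * wd Wa * wd Wc := by
  have h := eq_of_chkB (v := Wa ++ Wb) (w := (Wb ++ Wa) ++ Wc) (by decide +kernel)
  rwa [wd_append, wd_append, wd_append] at h

theorem ab_ne : wd Wa * wd Wb ≠ wd Wb * wd Wa := by
  have h := Cfsg.Agent.H587.NR.He.ne_of_chkB (v := Wa ++ Wb) (w := Wb ++ Wa) (by decide +kernel)
  rwa [wd_append, wd_append] at h

theorem card_he : Nat.card Cfsg.Spor.He = 4030387200 := KFacts.He.Classes.card_he

theorem he_nine (g : Cfsg.Spor.He) : orderOf g ≠ 9 := by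
  have : Finite Cfsg.Spor.He := Nat.finite_of_card_ne_zero (by rw [card_he]; norm_num)
  exact no_nine_of_heis (by rw [card_he]; norm_num) (by rw [card_he]; norm_num) a3 b3 c3 ac bc ab ab_ne g

theorem rowZ_he_model (h : Spor.IsoHe Spor.He) : RowZ 17 Spor.He := by
  have hfin : Finite Cfsg.Spor.He := Nat.finite_of_card_ne_zero (by rw [card_he]; norm_num)
  have hc := card_he
  have f17 : Fact (Nat.Prime 17) := ⟨by norm_num⟩
  obtain ⟨x, hx⟩ := exists_prime_orderOf_dvd_card' (G := Spor.He) 17 (by rw [hc]; norm_num)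
  have hxC := H547.SelfCent.HeRow.he h hc hx
  refine H655.BR.rowZ_of_single (e := 8) (by norm_num) (by norm_num) (by rw [hc]; norm_num) (by rw [hc]; norm_num)
    (fun P => H655.BR.relIndex_eq (by rw [hc]; norm_num) hx hxC (n := 237081600) (by rw [hc]) (by norm_num) P)
    (by decide) (by norm_num) (fun M hM => H657.Frob.frob hM (by norm_num) (by rw [hc]; norm_num) (by rw [hc]; norm_num))
    (H494.B0R.gen0_group (fac := [(2, 10), (3, 3), (5, 2), (7, 3), (17, 1)]) (bad := [9]) hc (by decide +kernel)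
      (by norm_num) (by norm_num) (by decide +kernel) fun g d hd => ?_)
  rw [List.mem_singleton] at hd
  subst hd
  intro h9
  exact he_nine (g ^ (orderOf g / 9)) (orderOf_pow_orderOf_div (orderOf_pos g).ne' h9)

/-- **`He`**, `p = 17`. -/
theorem rowZ_he {S : Type u} [Group S] (h : Spor.IsoHe S) : RowZ 17 S := by
  obtain ⟨e⟩ := h
  exact H646.BR.rowZ_congr e (rowZ_he_model ⟨MulEquiv.refl _⟩)

end Cfsg.Agent.H690.B0R.HeRow
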