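import Cfsg.Agent.H690.B0R.TwoNE
import Cfsg.Agent.H646.BR.Congr
import Cfsg.Agent.H417.JOneDeg
import Cfsg.Agent.H417.JThreeDeg
import Cfsg.Agent.H724.IMJThree
import Cfsg.Agent.H715.Fpr.J2
import Cfsg.Agent.H685.BR.Defs
import Cfsg.Agent.H657.Frob.Nonexc

/-!
# Rational characters in the principal block: `J₁`, `J₂` (`p = 7`), `J₃` (`p = 5, 17, 19`) (helper690)

* `J₁` : the principal `3`-block has degrees `1, 76, 77`.
* `J₃` : the principal `5`-block has degrees `1, 324, 323, 323`.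
* `J₂` : an element of order `7` is conjugate to its inverse.
-/

set_option autoImplicit false

namespace Cfsg.Agent.H690.B0R

open Cfsg Subgroup Cfsg.Agent.Characters Cfsg.Agent.Characters.Core Cfsg.Agent.M23Order.Base
open Cfsg.Agent.H145.BR Cfsg.Agent.H417 Cfsg.Agent.H685.BR

universe u

variable {G : Type u} [Group G] [Finite G]

theorem not_comm_of_card [IsSimpleGroup G] (h : ¬ (Nat.card G).Prime) : ¬ IsMulCommutative G := by
  intro hc
  apply h
  have := Fintype.ofFinite G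
  let _ : CommGroup G := { (inferInstance : Group G) with mul_comm := fun a b => hc.is_comm.comm a b }
  exact IsSimpleGroup.prime_card

theorem relIndex_dvd {p : ℕ} [Fact p.Prime] (P : Sylow p G) (hP : Nat.card P = p) :
    (centralizer (P : Set G)).relIndex (normalizer (P : Set G)) ∣ p - 1 :=
  SmallSimple.BurnsideNC.relIndex_dvd_of_card_eq_prime P hP

omit [Finite G] in
/-- the relative index from the orders -/
theorem card_normalizer_eq (P : Subgroup G) :
    (centralizer (P : Set G)).relIndex (normalizer (P : Set G)) * Nat.card (centralizer (P : Set G)) =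
      Nat.card (normalizer (P : Set G)) := by
  have hle : centralizer (P : Set G) ≤ normalizer (P : Set G) := centralizer_le_normalizer _
  have h3 := Subgroup.index_mul_card ((centralizer (P : Set G)).subgroupOf (normalizer (P : Set G)))
  rwa [Nat.card_congr (Subgroup.subgroupOfEquivOfLe hle).toEquiv] at h3

/-! ### `J₁` -/

/-- the arithmetic of the pair of degrees -/
theorem jone_pair {x y : ℕ} (a : x = 1 ∨ x = 56 ∨ x = 76 ∨ x = 77 ∨ x = 120 ∨ x = 132 ∨ x = 133 ∨ x = 209 ∨ x = 210)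
    (b : y = 1 ∨ y = 56 ∨ y = 76 ∨ y = 77 ∨ y = 120 ∨ y = 132 ∨ y = 133 ∨ y = 209 ∨ y = 210)
    (h : (((3 : ℕ) : ℤ) ∣ 1 - (x : ℤ) ∧ y = x + 1) ∨ (((3 : ℕ) : ℤ) ∣ -1 - (x : ℤ) ∧ y + 1 = x)) :
    x = 76 ∧ y = 77 ∨ y = 76 ∧ x = 77 := by
  rcases h with ⟨h1, h2⟩ | ⟨h1, h2⟩
  · subst h2
    rcases a with rfl | rfl | rfl | rfl | rfl | rfl | rfl | rfl | rfl <;> revert h1 b <;> decide
  · subst h2
    rcases b with rfl | rfl | rfl | rfl | rfl | rfl | rfl | rfl | rfl <;> revert h1 a <;> decide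

theorem jone_rational : ∃ χ Θ : IrrCharacter Spor.J1, IntV χ ∧ IntV Θ ∧ dg χ = 76 ∧ dg Θ = 77 := by
  have hc := H413.JOneLocal.card_J1
  have hL := H413.JOneLocal.isLocal
  have hsim : IsSimpleGroup Spor.J1 := SporadicB.J1.Main.isJ1.1
  have hfin : Finite Spor.J1 := Nat.finite_of_card_ne_zero (by rw [hc]; norm_num)
  have f3 : Fact (Nat.Prime 3) := ⟨by norm_num⟩
  have f7 : Fact (Nat.Prime 7) := ⟨by norm_num⟩
  have f11 : Fact (Nat.Prime 11) := ⟨by norm_num⟩
  have f19 : Fact (Nat.Prime 19) := ⟨by norm_num⟩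
  obtain ⟨P7, hP7, ⟨D⟩⟩ := BlockCount.exists_SC (G := Spor.J1) 7 (by norm_num) (by rw [hc]; norm_num)
    (by rw [hc]; norm_num) (fun y hy => by rw [JOneDeg.card_cent hL hc (by rw [hy]; unfold H413.JOneSpec.Big; tauto), hy]) (e := 6) (t := 1)
    (by rw [hc]) (by norm_num)
  obtain ⟨Q, hQ, ⟨E⟩⟩ := BlockCount.exists_SC (G := Spor.J1) 11 (by norm_num) (by rw [hc]; norm_num)
    (by rw [hc]; norm_num) (fun y hy => by rw [JOneDeg.card_cent hL hc (by rw [hy]; unfold H413.JOneSpec.Big; tauto), hy]) (e := 10) (t := 1)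
    (by rw [hc]) (by norm_num)
  obtain ⟨R, hR, ⟨F⟩⟩ := BlockCount.exists_SC (G := Spor.J1) 19 (by norm_num) (by rw [hc]; norm_num)
    (by rw [hc]; norm_num) (fun y hy => by rw [JOneDeg.card_cent hL hc (by rw [hy]; unfold H413.JOneSpec.Big; tauto), hy]) (e := 6) (t := 3)
    (by rw [hc]) (by norm_num)
  have hmem : ∀ χ : IrrCharacter Spor.J1, dg χ ∈ ({1, 56, 76, 77, 120, 132, 133, 209, 210} : Finset ℕ) := by
    intro χ
    have h1 := Divs.all_divs _ JOneDeg.primes_ok (N := 175560) rfl JOneDeg.deg_list (d := dg χ) (by rw [← hc]; exact dg_dvd χ)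
    have h2 := BlockCount.mod_cases D (by norm_num) (by norm_num) (by norm_num) χ
    have h3 := BlockCount.mod_cases E (by norm_num) (by norm_num) (by norm_num) χ
    have h4 := BlockCount.mod_cases F (by norm_num) (by norm_num) (by norm_num) χ
    have := finite_irr (G := Spor.J1)
    let _ := Fintype.ofFinite (IrrCharacter Spor.J1)
    have h6 : dg χ ^ 2 ≤ 175560 := by
      have h7 := sum_dg_sq_le {χ}
      rw [Finset.sum_singleton, hc] at h7
      exact h7
    have e1 : decide (175560 < dg χ ^ 2) = false := decide_eq_false (Nat.not_lt.2 h6)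
    have A1 : (dg χ % 7 == 0 || dg χ % 7 == 1 || dg χ % 7 == 6) = true := by
      rcases h2 with h | h | h | h | h <;> simp [h]
    have A2 : (dg χ % 11 == 0 || dg χ % 11 == 1 || dg χ % 11 == 10) = true := by
      rcases h3 with h | h | h | h | h <;> simp [h]
    have A3 : (dg χ % 19 == 0 || dg χ % 19 == 1 || dg χ % 19 == 18 || dg χ % 19 == 6 || dg χ % 19 == 13) = true := by
      rcases h4 with h | h | h | h | h <;> simp [h]
    rw [e1, A1, A2, A3] at h1
    simp only [Bool.not_true, Bool.false_or, Bool.or_eq_true, beq_iff_eq] at h1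
    simpa only [Finset.mem_insert, Finset.mem_singleton, or_assoc] using h1
  obtain ⟨P, hP⟩ := exists_sylow (G := Spor.J1) (p := 3) (by rw [hc]; norm_num) (by rw [hc]; norm_num)
  have he : (centralizer (P : Set Spor.J1)).relIndex (normalizer (P : Set Spor.J1)) = 2 := by
    have h1 := relIndex_dvd P hP
    have h2 := SmallSimple.BurnsideNC.relIndex_ne_one (G := Spor.J1) (p := 3) (by rw [hc]; norm_num)
      (by rw [hc]; norm_num) P
    have h3 := (Nat.dvd_prime Nat.prime_two).1 h1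
    rcases h3 with h3 | h3
    · exact absurd h3 h2
    · exact h3
  obtain ⟨M, hM⟩ := Blocks.ExistsModular.exists_isPModular (p := 3) (by norm_num)
  obtain ⟨χ, Θ, -, -, -, h4, h5, h6⟩ := exists_of_two (by norm_num) hM P hP he
  have h7 := h6 rfl
  have a := hmem χ
  have b := hmem Θ
  change (((3 : ℕ) : ℤ) ∣ 1 - (dg χ : ℤ) ∧ dg Θ = dg χ + 1) ∨ (((3 : ℕ) : ℤ) ∣ -1 - (dg χ : ℤ) ∧ dg Θ + 1 = dg χ) at h4
  simp only [Finset.mem_insert, Finset.mem_singleton] at a b
  have h8 : dg χ = 76 ∧ dg Θ = 77 ∨ dg Θ = 76 ∧ dg χ = 77 := jone_pair a b h4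
  rcases h8 with ⟨h8, h9⟩ | ⟨h8, h9⟩
  · exact ⟨χ, Θ, h5, h7, h8, h9⟩
  · exact ⟨Θ, χ, h7, h5, h8, h9⟩

omit [Finite G] in
theorem ne_one_of_dg {θ : IrrCharacter G} {d : ℕ} (h : dg θ = d) (hd : d ≠ 1) : (θ : G → ℂ) ≠ (fun _ => (1 : ℂ)) := by
  intro h1
  have h2 := dg_eq θ
  rw [h1, h] at h2
  have h3 : (1 : ℂ) = (d : ℂ) := h2
  exact hd (by exact_mod_cast h3.symm)

theorem rowZ_J1_aux {p : ℕ} (hp : p = 3 ∨ p = 5 ∨ p = 7 ∨ p = 11 ∨ p = 19) : RowZ p Spor.J1 := by
  have hc := H413.JOneLocal.card_J1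
  have hL := H413.JOneLocal.isLocal
  have hsim : IsSimpleGroup Spor.J1 := SporadicB.J1.Main.isJ1.1
  have hfin : Finite Spor.J1 := Nat.finite_of_card_ne_zero (by rw [hc]; norm_num)
  have hna : ¬ IsMulCommutative Spor.J1 := not_comm_of_card (by rw [hc]; norm_num)
  obtain ⟨χ, Θ, h1, h2, h3, h4⟩ := jone_rational
  rcases hp with rfl | rfl | rfl | rfl | rfl
  · exact H852.RatB.rowZ_simple_three hna (by rw [hc]; norm_num) (by rw [hc]; norm_num)
  · exact H852.RatB.rowZ_simple_five hna (by rw [hc]; norm_num) (by rw [hc]; norm_num)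
  · have : Fact (Nat.Prime 7) := ⟨by norm_num⟩
    exact rowZ_of_self (by norm_num) (by rw [hc]; norm_num) (by rw [hc]; norm_num)
      (fun y hy => by rw [JOneDeg.card_cent hL hc (by rw [hy]; unfold H413.JOneSpec.Big; tauto), hy]) χ
      (ne_one_of_dg h3 (by norm_num)) (by change ¬ 7 ∣ dg χ; rw [h3]; norm_num) h1
  · have : Fact (Nat.Prime 11) := ⟨by norm_num⟩
    exact rowZ_of_self (by norm_num) (by rw [hc]; norm_num) (by rw [hc]; norm_num)
      (fun y hy => by rw [JOneDeg.card_cent hL hc (by rw [hy]; unfold H413.JOneSpec.Big; tauto), hy]) χ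
      (ne_one_of_dg h3 (by norm_num)) (by change ¬ 11 ∣ dg χ; rw [h3]; norm_num) h1
  · have : Fact (Nat.Prime 19) := ⟨by norm_num⟩
    exact rowZ_of_self (by norm_num) (by rw [hc]; norm_num) (by rw [hc]; norm_num)
      (fun y hy => by rw [JOneDeg.card_cent hL hc (by rw [hy]; unfold H413.JOneSpec.Big; tauto), hy]) Θ
      (ne_one_of_dg h4 (by norm_num)) (by change ¬ 19 ∣ dg Θ; rw [h4]; norm_num) h2

/-- **`J₁`**, all odd primes. -/
theorem rowZ_j1 {S : Type u} [Group S] (h : Spor.IsoJ1 S) {p : ℕ}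
    (hp : p = 3 ∨ p = 5 ∨ p = 7 ∨ p = 11 ∨ p = 19) : RowZ p S := by
  obtain ⟨e⟩ := h
  exact H646.BR.rowZ_congr e (rowZ_J1_aux hp)

/-! ### `J₃` -/

theorem deg_list3 : (Divs.divs [(2,7),(3,5),(5,1),(17,1),(19,1)]).all (fun d =>
    !(d % 17 == 0 || d % 17 == 1 || d % 17 == 16 || d % 17 == 8 || d % 17 == 9) ||
    !((d + 1) % 17 == 0 || (d + 1) % 17 == 1 || (d + 1) % 17 == 16 || (d + 1) % 17 == 8 || (d + 1) % 17 == 9) ||
    !(d % 19 == 0 || d % 19 == 1 || d % 19 == 18 || d % 19 == 9 || d % 19 == 10) ||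
    !((d + 1) % 19 == 0 || (d + 1) % 19 == 1 || (d + 1) % 19 == 18 || (d + 1) % 19 == 9 || (d + 1) % 19 == 10) ||
    !(50232960 % (d + 1) == 0) || (d == 152 || d == 170 || d == 323 || d == 1215)) = true := by
  decide +kernel

theorem primes_ok3 : ∀ x ∈ [(2,7),(3,5),(5,1),(17,1),(19,1)], (x : ℕ × ℕ).1.Prime := by
  intro x hx
  simp only [List.mem_cons, List.not_mem_nil, or_false] at hx
  rcases hx with rfl | rfl | rfl | rfl | rfl <;> norm_num

theorem cond5 {x a b c d e : ℕ} (h : x = a ∨ x = b ∨ x = c ∨ x = d ∨ x = e) :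
    (x == a || x == b || x == c || x == d || x == e) = true := by
  rcases h with h | h | h | h | h <;> simp [h]

theorem jthree_pair {d : ℕ}
    (a1 : d % 17 = 0 ∨ d % 17 = 1 ∨ d % 17 = 17 - 1 ∨ d % 17 = 8 ∨ d % 17 = 17 - 8)
    (a2 : (d + 1) % 17 = 0 ∨ (d + 1) % 17 = 1 ∨ (d + 1) % 17 = 17 - 1 ∨ (d + 1) % 17 = 8 ∨ (d + 1) % 17 = 17 - 8)
    (a3 : d % 19 = 0 ∨ d % 19 = 1 ∨ d % 19 = 19 - 1 ∨ d % 19 = 9 ∨ d % 19 = 19 - 9)
    (a4 : (d + 1) % 19 = 0 ∨ (d + 1) % 19 = 1 ∨ (d + 1) % 19 = 19 - 1 ∨ (d + 1) % 19 = 9 ∨ (d + 1) % 19 = 19 - 9)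
    (b1 : d ∣ 50232960) (b2 : d + 1 ∣ 50232960) : d = 152 ∨ d = 170 ∨ d = 323 ∨ d = 1215 := by
  have h7 := Divs.all_divs _ primes_ok3 (N := 50232960) rfl deg_list3 b1
  have A1 : (d % 17 == 0 || d % 17 == 1 || d % 17 == 16 || d % 17 == 8 || d % 17 == 9) = true := cond5 a1
  have A2 : ((d + 1) % 17 == 0 || (d + 1) % 17 == 1 || (d + 1) % 17 == 16 || (d + 1) % 17 == 8 ||
    (d + 1) % 17 == 9) = true := cond5 a2
  have A3 : (d % 19 == 0 || d % 19 == 1 || d % 19 == 18 || d % 19 == 9 || d % 19 == 10) = true := cond5 a3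
  have A4 : ((d + 1) % 19 == 0 || (d + 1) % 19 == 1 || (d + 1) % 19 == 18 || (d + 1) % 19 == 9 ||
    (d + 1) % 19 == 10) = true := cond5 a4
  have B : (50232960 % (d + 1) == 0) = true := by rw [Nat.mod_eq_zero_of_dvd b2]; rfl
  rw [A1, A2, A3, A4, B] at h7
  simp only [Bool.not_true, Bool.false_or, Bool.or_eq_true, beq_iff_eq] at h7
  simpa only [or_assoc] using h7

theorem jthree_rational (h : Spor.IsoJ3 G) : ∃ χ : IrrCharacter G, IntV χ ∧ dg χ = 324 := by
  have hsim := (H898.J3Cent.base h).1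
  have hc := (H898.J3Cent.base h).2.1
  have f5 : Fact (Nat.Prime 5) := ⟨by norm_num⟩
  have f17 : Fact (Nat.Prime 17) := ⟨by norm_num⟩
  have f19 : Fact (Nat.Prime 19) := ⟨by norm_num⟩
  obtain ⟨P17, hP17, ⟨D⟩⟩ := BlockCount.exists_SC (G := G) 17 (by norm_num) (by rw [hc]; norm_num)
    (by rw [hc]; norm_num) (fun y hy => (H898.J3Cent.seventeen h hy).1) (e := 8) (t := 2)
    (by rw [hc]) (by norm_num)
  obtain ⟨Q, hQ, ⟨E⟩⟩ := BlockCount.exists_SC (G := G) 19 (by norm_num) (by rw [hc]; norm_num)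
    (by rw [hc]; norm_num) (fun y hy => H898.J3Cent.card_nineteen h hy) (e := 9) (t := 2)
    (by rw [hc]) (by norm_num)
  obtain ⟨y, hy, hCy⟩ := H724.IMJThree.exists_five h
  obtain ⟨P, hP⟩ := exists_sylow (G := G) (p := 5) (by rw [hc]; norm_num) (by rw [hc]; norm_num)
  -- a conjugate of `y` generates `P`
  obtain ⟨c, hcP⟩ := H657.Frob.exists_conj_mem P (x := y) ⟨1, by rw [hy, pow_one]⟩
  have hz : orderOf (c * y * c⁻¹) = 5 := by
    have := (MulAut.conj c).orderOf_eq y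
    rw [MulAut.conj_apply] at this
    rw [this, hy]
  have hPz : (P : Subgroup G) = zpowers (c * y * c⁻¹) := by
    have h1 : zpowers (c * y * c⁻¹) ≤ P := by rwa [zpowers_le]
    exact (Subgroup.eq_of_le_of_card_ge h1 (by rw [hP, Nat.card_zpowers, hz])).symm
  have hCz : Nat.card (centralizer ((P : Subgroup G) : Set G)) = 30 := by
    rw [hPz, H898.J3Cent.centralizer_zpowers, ← hCy]
    refine Nat.card_congr ((Equiv.subtypeEquiv (MulAut.conj c).toEquiv fun g => ?_).symm)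
    show g ∈ centralizer ({y} : Set G) ↔ c * g * c⁻¹ ∈ centralizer ({c * y * c⁻¹} : Set G)
    rw [mem_centralizer_singleton_iff, mem_centralizer_singleton_iff]
    constructor
    · intro h1
      calc c * g * c⁻¹ * (c * y * c⁻¹) = c * (g * y) * c⁻¹ := by group
        _ = c * (y * g) * c⁻¹ := by rw [h1]
        _ = _ := by group
    · intro h1
      have h2 : c * (g * y) * c⁻¹ = c * (y * g) * c⁻¹ := by
        calc c * (g * y) * c⁻¹ = c * g * c⁻¹ * (c * y * c⁻¹) := by group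
          _ = c * y * c⁻¹ * (c * g * c⁻¹) := h1
          _ = _ := by group
      exact mul_left_cancel (mul_right_cancel h2)
  have he : (centralizer (P : Set G)).relIndex (normalizer (P : Set G)) = 2 := by
    have h1 := relIndex_dvd P hP
    have h2 := SmallSimple.BurnsideNC.relIndex_ne_one (G := G) (p := 5) (by rw [hc]; norm_num)
      (by rw [hc]; norm_num) P
    have h3 := card_normalizer_eq (P : Subgroup G)
    rw [hCz] at h3
    have h4 : Nat.card (Sylow 5 G) = (normalizer ((P : Subgroup G) : Set G)).index := P.card_eq_index_normalizer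
    have h5 : Nat.card (Sylow 5 G) ≡ 1 [MOD 5] := card_sylow_modEq_one 5 G
    have h6 := (normalizer ((P : Subgroup G) : Set G)).card_mul_index
    rw [← h3, ← h4, hc] at h6
    have h7 : (centralizer (P : Set G)).relIndex (normalizer (P : Set G)) ≤ 4 := Nat.le_of_dvd (by norm_num) h1
    generalize (centralizer (P : Set G)).relIndex (normalizer (P : Set G)) = e at *
    generalize Nat.card (Sylow 5 G) = n at *
    have h8 : n % 5 = 1 := h5
    interval_cases e
    · omega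
    · omega
    · rfl
    · omega
    · omega
  obtain ⟨M, hM⟩ := Blocks.ExistsModular.exists_isPModular (p := 5) (by norm_num)
  obtain ⟨χ, Θ, -, -, -, h4, h5, -⟩ := exists_of_two (by norm_num) hM P hP he
  refine ⟨χ, h5, ?_⟩
  change (((5 : ℕ) : ℤ) ∣ 1 - (dg χ : ℤ) ∧ dg Θ = dg χ + 1) ∨ (((5 : ℕ) : ℤ) ∣ -1 - (dg χ : ℤ) ∧ dg Θ + 1 = dg χ) at h4
  have a1 := BlockCount.mod_cases D (by norm_num) (by norm_num) (by norm_num) χ
  have a2 := BlockCount.mod_cases D (by norm_num) (by norm_num) (by norm_num) Θ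
  have a3 := BlockCount.mod_cases E (by norm_num) (by norm_num) (by norm_num) χ
  have a4 := BlockCount.mod_cases E (by norm_num) (by norm_num) (by norm_num) Θ
  have b1 : dg χ ∣ 50232960 := by rw [← hc]; exact dg_dvd χ
  have b2 : dg Θ ∣ 50232960 := by rw [← hc]; exact dg_dvd Θ
  rcases h4 with ⟨h4, h6⟩ | ⟨h4, h6⟩
  · exfalso
    rw [h6] at a2 a4 b2
    rcases jthree_pair a1 a2 a3 a4 b1 b2 with h7 | h7 | h7 | h7 <;> rw [h7] at h4 <;> revert h4 <;> decide
  · rw [← h6] at a1 a3 b1 h4 ⊢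
    rcases jthree_pair a2 a1 a4 a3 b2 b1 with h7 | h7 | h7 | h7 <;> rw [h7] at h4 ⊢ <;> revert h4 <;> decide

/-- **`J₃`**, the primes `5`, `17`, `19`. -/
theorem rowZ_j3 {S : Type u} [Group S] (h : Spor.IsoJ3 S) {p : ℕ} (hp : p = 5 ∨ p = 17 ∨ p = 19) : RowZ p S := by
  have hsim := (H898.J3Cent.base h).1
  have hc := (H898.J3Cent.base h).2.1
  have hfin : Finite S := Nat.finite_of_card_ne_zero (by rw [hc]; norm_num)
  have hna : ¬ IsMulCommutative S := not_comm_of_card (by rw [hc]; norm_num)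
  obtain ⟨χ, h1, h3⟩ := jthree_rational h
  rcases hp with rfl | rfl | rfl
  · exact H852.RatB.rowZ_simple_five hna (by rw [hc]; norm_num) (by rw [hc]; norm_num)
  · have : Fact (Nat.Prime 17) := ⟨by norm_num⟩
    exact rowZ_of_self (by norm_num) (by rw [hc]; norm_num) (by rw [hc]; norm_num)
      (fun y hy => (H898.J3Cent.seventeen h hy).1) χ
      (ne_one_of_dg h3 (by norm_num)) (by change ¬ 17 ∣ dg χ; rw [h3]; norm_num) h1
  · have : Fact (Nat.Prime 19) := ⟨by norm_num⟩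
    exact rowZ_of_self (by norm_num) (by rw [hc]; norm_num) (by rw [hc]; norm_num)
      (fun y hy => H898.J3Cent.card_nineteen h hy) χ
      (ne_one_of_dg h3 (by norm_num)) (by change ¬ 19 ∣ dg χ; rw [h3]; norm_num) h1

/-! ### `J₂`, `p = 7` -/

/-- `|N(⟨y⟩)| = (p - 1) |C(y)|`, `p` odd: `y` is real -/
theorem real_of_card {p : ℕ} [Fact p.Prime] {y : G} (hy : orderOf y = p)
    (h : Nat.card (normalizer ((zpowers y : Subgroup G) : Set G)) =
      (p - 1) * Nat.card (centralizer ((zpowers y : Subgroup G) : Set G))) : IsConj y y⁻¹ := by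
  have hcP : Nat.card (zpowers y) = p := by rw [Nat.card_zpowers, hy]
  have hcyc : IsCyclic (zpowers y) := isCyclic_of_prime_card hcP
  have hcomm : ∀ a b : zpowers y, a * b = b * a := fun a b => hcyc.isMulCommutative.is_comm.comm a b
  set N := normalizer ((zpowers y : Subgroup G) : Set G) with hN
  let f : N →* MulAut (zpowers y) := normalizerMonoidHom (zpowers y)
  have hk : f.ker = (centralizer ((zpowers y : Subgroup G) : Set G)).subgroupOf N := normalizerMonoidHom_ker _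
  have h3 : (centralizer ((zpowers y : Subgroup G) : Set G)).relIndex N = Nat.card f.range := by
    rw [relIndex, ← hk, Subgroup.index_ker]
  have h4 : Nat.card (MulAut (zpowers y)) = p - 1 := by
    rw [IsCyclic.card_mulAut, hcP, Nat.totient_prime Fact.out]
  have h5 := card_normalizer_eq (zpowers y)
  rw [← hN, h] at h5
  have h6 : Nat.card f.range = Nat.card (MulAut (zpowers y)) := by
    rw [← h3, h4]
    exact Nat.eq_of_mul_eq_mul_right Nat.card_pos h5
  have h7 : f.range = ⊤ := Subgroup.eq_top_of_card_eq _ h6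
  let inv : MulAut (zpowers y) :=
    { toFun := fun a => a⁻¹
      invFun := fun a => a⁻¹
      left_inv := inv_inv
      right_inv := inv_inv
      map_mul' := fun a b => by rw [mul_inv_rev, hcomm] }
  obtain ⟨n, hn⟩ : inv ∈ f.range := by rw [h7]; trivial
  have h8 := congrArg (fun a : MulAut (zpowers y) => ((a ⟨y, mem_zpowers y⟩ : zpowers y) : G)) hn
  have h9 : (n : G) * y * (n : G)⁻¹ = y⁻¹ := h8
  exact isConj_iff.2 ⟨n, h9⟩

theorem rowZ_j2_aux {S : Type} [Group S] (h : Spor.IsoJ2 S) : RowZ 7 S := by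
  have hfin := H715.Fpr.J2.fin h
  have hc := H715.Fpr.J2.card h
  have hc' : Nat.card S = 604800 := by rw [hc]; rfl
  have : Fact (Nat.Prime 7) := ⟨by norm_num⟩
  obtain ⟨y, hy⟩ := exists_prime_orderOf_dvd_card' (G := S) 7 (by rw [hc']; norm_num)
  have h1 := H715.Fpr.J2.cn7 h (R := zpowers y) (by rw [Nat.card_zpowers, hy])
  refine H852.RatB.rowZ_seven_of_real (by rw [hc']; norm_num) hy (real_of_card hy ?_)
  rw [h1.1, h1.2]

/-- **`J₂`**, `p = 7`. -/
theorem rowZ_j2 {S : Type u} [Group S] (h : Spor.IsoJ2 S) : RowZ 7 S := by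
  obtain ⟨e⟩ := h
  exact H646.BR.rowZ_congr e (rowZ_j2_aux ⟨MulEquiv.refl _⟩)

/-! ### The rows of S4857 -/

theorem row57_j1 {S : Type u} [Group S] (h : Spor.IsoJ1 S) {p : ℕ} [Fact p.Prime]
    (hp : p = 3 ∨ p = 5 ∨ p = 7 ∨ p = 11 ∨ p = 19) : Row57 p S := row57_of_rowZ (rowZ_j1 h hp)

theorem row57_j2 {S : Type u} [Group S] (h : Spor.IsoJ2 S) : Row57 7 S := by
  have : Fact (Nat.Prime 7) := ⟨by norm_num⟩
  exact row57_of_rowZ (rowZ_j2 h)

theorem row57_j3 {S : Type u} [Group S] (h : Spor.IsoJ3 S) {p : ℕ} [Fact p.Prime] (hp : p = 5 ∨ p = 17 ∨ p = 19) :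
    Row57 p S := row57_of_rowZ (rowZ_j3 h hp)

end Cfsg.Agent.H690.B0R
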